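import Groth.Agent.FSch.K179.ComplRing
import Groth.Agent.Refuted.K306.EssSing
import Groth.Agent.FCompl.K29.RSec

/-!
# Sections of `O_X̂` over an affine open with `Γ(X, U) ≅ B[T]`, `𝓘(U) = (T)`: the ring `B⟦T⟧`

* `PowSer.exists_phi`: the algebra (a complete tower with levels `B[T] / T^(n+1)`);
* `PowSer.Phi`: `O_X̂(Û) ≃ B⟦T⟧`, natural in `U`;
* `PowSer.facts`: the ring facts used in the refutation of S17024.
-/

set_option autoImplicit false
universe u

open CategoryTheory CategoryTheory.Limits AlgebraicGeometry TopologicalSpace Opposite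

namespace Groth.Agent.Refuted.K473.PowSer

section Alg

variable {G O B : Type u} [CommRing G] [CommRing O] [CommRing B] (L : ℕ → Type u) [∀ n, CommRing (L n)]
  (p : ∀ n, O →+* L n) (t : ∀ n, L (n + 1) →+* L n) (c : G →+* O) (e : G ≃+* Polynomial B)

/-- `f` and `s` are related: for all `n` and all `a` with the same image as `s` in level `n`, the coefficients of
`e a` and `f` agree up to degree `n`. -/
def Rel (s : O) (f : PowerSeries B) : Prop :=
  ∀ n a, p n s = p n (c a) → ∀ k ≤ n, PowerSeries.coeff k f = (e a).coeff k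

theorem exists_phi (hpt : ∀ n s, t n (p (n + 1) s) = p n s)
    (hsurj : ∀ n, Function.Surjective ((p n).comp c))
    (hker : ∀ n, RingHom.ker ((p n).comp c) = ((Ideal.span {Polynomial.X}).comap e) ^ (n + 1))
    (hext : ∀ s s' : O, (∀ n, p n s = p n s') → s = s')
    (hlift : ∀ y : ∀ n, L n, (∀ n, t n (y (n + 1)) = y n) → ∃ s : O, ∀ n, p n s = y n) :
    ∃ Φ : O ≃+* PowerSeries B, ∀ s, Rel L p c e s (Φ s) := by
  have hpk : ∀ (n k : ℕ) (s s' : O), p (n + k) s = p (n + k) s' → p n s = p n s' := by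
    intro n k s s'
    induction k with
    | zero => exact id
    | succ k ih =>
      intro h
      apply ih
      rw [← hpt, ← hpt (n + k) s']
      exact congrArg (t (n + k)) h
  have hpk' : ∀ (n k : ℕ) (s s' : O), k ≤ n → p n s = p n s' → p k s = p k s' := by
    intro n k s s' hk h
    obtain ⟨d, rfl⟩ := Nat.exists_eq_add_of_le hk
    exact hpk k d s s' h
  have hker' : ∀ (n : ℕ) (a : G), p n (c a) = 0 ↔ ∀ k ≤ n, (e a).coeff k = 0 := by
    intro n a
    have h1 : p n (c a) = 0 ↔ a ∈ RingHom.ker ((p n).comp c) := Iff.rfl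
    rw [h1, hker n]
    have h2 : ((Ideal.span {(Polynomial.X : Polynomial B)}).comap e) ^ (n + 1) =
        (Ideal.span {(Polynomial.X : Polynomial B) ^ (n + 1)}).comap e := by
      rw [← Ideal.span_singleton_pow]
      have h3 : ∀ J : Ideal (Polynomial B), J.comap e = J.map e.symm := fun J =>
        (Ideal.map_symm e).symm
      rw [h3, h3, Ideal.map_pow]
    rw [h2, Ideal.mem_comap, Ideal.mem_span_singleton, Polynomial.X_pow_dvd_iff]
    constructor
    · intro h k hk
      exact h k (by omega)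
    · intro h k hk
      exact h k (by omega)
  have hrel : ∀ (n : ℕ) (a b : G), p n (c a) = p n (c b) → ∀ k ≤ n, (e a).coeff k = (e b).coeff k := by
    intro n a b h k hk
    have h1 : p n (c (a - b)) = 0 := by rw [map_sub, map_sub, h, sub_self]
    have h2 := (hker' n (a - b)).mp h1 k hk
    rw [map_sub, Polynomial.coeff_sub, sub_eq_zero] at h2
    exact h2
  choose l hl using fun n (s : O) => hsurj n (p n s)
  have hl' : ∀ n s, p n s = p n (c (l n s)) := fun n s => (hl n s).symm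
  let φ : O → PowerSeries B := fun s => PowerSeries.mk fun n => (e (l n s)).coeff n
  have hφ : ∀ s, Rel L p c e s (φ s) := by
    intro s n a h k hk
    change PowerSeries.coeff k (PowerSeries.mk fun n => (e (l n s)).coeff n) = _
    rw [PowerSeries.coeff_mk]
    refine hrel k _ _ ?_ k le_rfl
    rw [← hl' k s]
    exact hpk' n k _ _ hk h
  let Φ : O →+* PowerSeries B :=
    { toFun := φ
      map_one' := by
        ext n
        rw [hφ 1 n 1 (by rw [map_one c]) n le_rfl, map_one, Polynomial.coeff_one, PowerSeries.coeff_one]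
      map_zero' := by
        ext n
        rw [hφ 0 n 0 (by rw [map_zero c]) n le_rfl, map_zero, Polynomial.coeff_zero, map_zero]
      map_add' := by
        intro s s'
        ext n
        have h1 : p n (s + s') = p n (c (l n s + l n s')) := by
          rw [map_add, map_add, map_add, ← hl' n s, ← hl' n s']
        rw [hφ (s + s') n _ h1 n le_rfl, map_add, Polynomial.coeff_add, map_add,
          hφ s n _ (hl' n s) n le_rfl, hφ s' n _ (hl' n s') n le_rfl]
      map_mul' := by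
        intro s s'
        ext n
        have h1 : p n (s * s') = p n (c (l n s * l n s')) := by
          rw [map_mul, map_mul, map_mul, ← hl' n s, ← hl' n s']
        rw [hφ (s * s') n _ h1 n le_rfl, map_mul, Polynomial.coeff_mul, PowerSeries.coeff_mul]
        refine Finset.sum_congr rfl fun q hq => ?_
        rw [Finset.HasAntidiagonal.mem_antidiagonal] at hq
        rw [hφ s n _ (hl' n s) q.1 (by omega), hφ s' n _ (hl' n s') q.2 (by omega)] }
  have hΦ : ∀ s, Rel L p c e s (Φ s) := hφ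
  have hinj : Function.Injective Φ := by
    rw [injective_iff_map_eq_zero]
    intro s hs
    apply hext
    intro n
    rw [map_zero, hl' n s, hker' n]
    intro k hk
    rw [← hΦ s n _ (hl' n s) k hk, hs, map_zero]
  have hsur : Function.Surjective Φ := by
    intro f
    let a : ℕ → G := fun n => e.symm (PowerSeries.trunc (n + 1) f)
    have ha : ∀ n k, (e (a n)).coeff k = if k < n + 1 then PowerSeries.coeff k f else 0 := by
      intro n k
      change (e (e.symm _)).coeff k = _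
      rw [RingEquiv.apply_symm_apply, PowerSeries.coeff_trunc]
    obtain ⟨s, hs⟩ := hlift (fun n => p n (c (a n))) (by
      intro n
      rw [hpt]
      have h1 : p n (c (a (n + 1) - a n)) = 0 := by
        rw [hker']
        intro k hk
        rw [map_sub, Polynomial.coeff_sub, ha, ha, if_pos (by omega), if_pos (by omega), sub_self]
      rw [map_sub, map_sub, sub_eq_zero] at h1
      exact h1)
    refine ⟨s, ?_⟩
    ext n
    rw [hΦ s n _ (hs n) n le_rfl, ha, if_pos (by omega)]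
  exact ⟨RingEquiv.ofBijective Φ ⟨hinj, hsur⟩, hΦ⟩

end Alg

open FSch K919.AffBasic K179.ComplRing

section Geo

variable {X : Scheme.{u}} (𝓘 : X.IdealSheafData) (hX : (completionAlong X 𝓘).IsFormal)

/-- The relation between sections of `O_X̂` over `Û` and power series. -/
abbrev RelX {B : Type u} [CommRing B] {U : X.Opens} (e : Γ(X, U) ≃+* Polynomial B)
    (s : OU (completionAlong X 𝓘) hX (iO 𝓘 U)) (f : PowerSeries B) : Prop :=
  Rel (fun n => LU (completionAlong X 𝓘) hX n (iO 𝓘 U)) (fun n => pr (completionAlong X 𝓘) hX n (iO 𝓘 U))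
    (cs 𝓘 hX U) e s f

theorem exists_phiX {B : Type u} [CommRing B] {U : X.Opens} (hU : IsAffineOpen U)
    (e : Γ(X, U) ≃+* Polynomial B)
    (he : 𝓘.ideal ⟨U, hU⟩ = (Ideal.span {Polynomial.X}).comap e) :
    ∃ Φ : OU (completionAlong X 𝓘) hX (iO 𝓘 U) ≃+* PowerSeries B, ∀ s, RelX 𝓘 hX e s (Φ s) := by
  refine exists_phi (fun n => LU (completionAlong X 𝓘) hX n (iO 𝓘 U))
    (fun n => pr (completionAlong X 𝓘) hX n (iO 𝓘 U)) (fun n => tr (completionAlong X 𝓘) hX n (iO 𝓘 U))
    (cs 𝓘 hX U) e (fun n s => tr_pr _ hX n _ s) (fun n => pr_cs_surjective 𝓘 hX n hU) ?_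
    (fun s s' h => osh_ext _ hX s s' h) (fun y hy => osh_lift _ hX y hy)
  intro n
  rw [← he]
  exact ker_pr_cs 𝓘 hX n hU

/-- Restriction of sections of `O_X̂`. -/
noncomputable abbrev rsO {U V : X.Opens} (h : U ≤ V) :
    OU (completionAlong X 𝓘) hX (iO 𝓘 V) →+* OU (completionAlong X 𝓘) hX (iO 𝓘 U) :=
  (((completionAlong X 𝓘).Osh hX).obj.map (homOfLE ((Opens.map _).monotone h : iO 𝓘 U ≤ iO 𝓘 V)).op).hom

/-- Restriction on the levels. -/
noncomputable abbrev rsL (n : ℕ) {U V : X.Opens} (h : U ≤ V) :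
    LU (completionAlong X 𝓘) hX n (iO 𝓘 V) →+* LU (completionAlong X 𝓘) hX n (iO 𝓘 U) :=
  (((completionAlong X 𝓘).levelObj hX n).obj.map
    (homOfLE ((Opens.map _).monotone h : iO 𝓘 U ≤ iO 𝓘 V)).op).hom

theorem pr_rsO (n : ℕ) {U V : X.Opens} (h : U ≤ V) (s : OU (completionAlong X 𝓘) hX (iO 𝓘 V)) :
    pr (completionAlong X 𝓘) hX n (iO 𝓘 U) (rsO 𝓘 hX h s) =
      rsL 𝓘 hX n h (pr (completionAlong X 𝓘) hX n (iO 𝓘 V) s) :=
  congrArg (fun φ => φ.hom s) (((completionAlong X 𝓘).OshProj hX n).hom.naturality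
    (homOfLE ((Opens.map _).monotone h : iO 𝓘 U ≤ iO 𝓘 V)).op)

theorem rsO_cs {U V : X.Opens} (h : U ≤ V) (a : Γ(X, V)) :
    rsO 𝓘 hX h (cs 𝓘 hX V a) = cs 𝓘 hX U ((X.presheaf.map (homOfLE h).op).hom a) :=
  (congrArg (fun φ => φ.hom a) ((schSharp (completionAlong X 𝓘) hX (completionToX X 𝓘)
    (completionToX_comm X 𝓘)).hom.naturality (homOfLE h).op)).symm

theorem phi_nat {B B' : Type u} [CommRing B] [CommRing B'] (ι : B →+* B') {U V : X.Opens} (h : U ≤ V)
    (hV : IsAffineOpen V) (eU : Γ(X, U) ≃+* Polynomial B') (eV : Γ(X, V) ≃+* Polynomial B)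
    (hc : ∀ a, eU ((X.presheaf.map (homOfLE h).op).hom a) = Polynomial.map ι (eV a))
    (s : OU (completionAlong X 𝓘) hX (iO 𝓘 V)) (f : PowerSeries B) (g : PowerSeries B')
    (hf : RelX 𝓘 hX eV s f) (hg : RelX 𝓘 hX eU (rsO 𝓘 hX h s) g) : g = PowerSeries.map ι f := by
  ext n
  obtain ⟨a, ha⟩ := pr_cs_surjective 𝓘 hX n hV (pr (completionAlong X 𝓘) hX n (iO 𝓘 V) s)
  have h1 := hf n a ha.symm n le_rfl
  have h2 := hg n ((X.presheaf.map (homOfLE h).op).hom a) (by
    rw [← rsO_cs, pr_rsO, pr_rsO]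
    exact congrArg _ ha.symm) n le_rfl
  rw [h2, hc, Polynomial.coeff_map, PowerSeries.coeff_map, h1]

/-- **The ring facts.** -/
theorem facts {A K : Type u} [CommRing A] [CommRing K] [Nontrivial K] (ι : A →+* K)
    (hι : Function.Injective ι) (x : A) (y : K) (hxy : ι x * y = 1)
    (hsep : ∀ a : A, (∀ r : ℕ, x ^ r ∣ a) → a = 0)
    {I : Type*} {U : X.Opens} {V : I → X.Opens} (hUV : ∀ i, U ≤ V i) (hU : IsAffineOpen U)
    (hV : ∀ i, IsAffineOpen (V i)) (eU : Γ(X, U) ≃+* Polynomial K) (eV : ∀ i, Γ(X, V i) ≃+* Polynomial A)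
    (hc : ∀ i a, eU ((X.presheaf.map (homOfLE (hUV i)).op).hom a) = Polynomial.map ι (eV i a))
    (hIU : 𝓘.ideal ⟨U, hU⟩ = (Ideal.span {Polynomial.X}).comap eU)
    (hIV : ∀ i, 𝓘.ideal ⟨V i, hV i⟩ = (Ideal.span {Polynomial.X}).comap (eV i)) :
    Nontrivial (OU (completionAlong X 𝓘) hX (iO 𝓘 U)) ∧ (∀ i, Function.Injective (rsO 𝓘 hX (hUV i))) ∧
      ∃ σ : OU (completionAlong X 𝓘) hX (iO 𝓘 U), ∀ i (a b : OU (completionAlong X 𝓘) hX (iO 𝓘 (V i))),
        rsO 𝓘 hX (hUV i) a * σ = rsO 𝓘 hX (hUV i) b → a = 0 := by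
  obtain ⟨Φ, hΦ⟩ := exists_phiX 𝓘 hX hU eU hIU
  choose Ψ hΨ using fun i => exists_phiX 𝓘 hX (hV i) (eV i) (hIV i)
  have hnat : ∀ i s, Φ (rsO 𝓘 hX (hUV i) s) = PowerSeries.map ι (Ψ i s) := fun i s =>
    phi_nat 𝓘 hX ι (hUV i) (hV i) eU (eV i) (hc i) s _ _ (hΨ i s) (hΦ _)
  refine ⟨Φ.toEquiv.nontrivial, ?_, Φ.symm (K306.EssSing.F y), ?_⟩
  · intro i s s' hs
    apply (Ψ i).injective
    have h1 := congrArg Φ hs
    rw [hnat, hnat] at h1
    ext n
    have h2 := congrArg (PowerSeries.coeff n) h1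
    rw [PowerSeries.coeff_map, PowerSeries.coeff_map] at h2
    exact hι h2
  · intro i a b hab
    have h1 := congrArg Φ hab
    rw [map_mul, RingEquiv.apply_symm_apply, hnat, hnat] at h1
    have h2 := K306.EssSing.eq_zero_of_map_mul_F ι hι x y hxy hsep _ _ h1
    exact (Ψ i).injective (by rw [h2, map_zero])

open K29.RSec in
/-- **The ring facts**, in the form used by `K573.Assemble.not_stmt`: `A` a discrete valuation ring with fraction
field `K` and uniformiser `ϖ`. -/
theorem facts_dvr {A K : Type u} [CommRing A] [IsDomain A] [IsDiscreteValuationRing A] [Field K] [Algebra A K]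
    [IsFractionRing A K] (ϖ : A) (hϖ : Irreducible ϖ)
    {I : Type*} {U : X.Opens} {V : I → X.Opens} (hUV : ∀ i, U ≤ V i) (hU : IsAffineOpen U)
    (hV : ∀ i, IsAffineOpen (V i)) (eU : Γ(X, U) ≃+* Polynomial K) (eV : ∀ i, Γ(X, V i) ≃+* Polynomial A)
    (hc : ∀ i a, eU ((X.presheaf.map (homOfLE (hUV i)).op).hom a) =
      Polynomial.map (algebraMap A K) (eV i a))
    (hIU : 𝓘.ideal ⟨U, hU⟩ = (Ideal.span {Polynomial.X}).comap eU)
    (hIV : ∀ i, 𝓘.ideal ⟨V i, hV i⟩ = (Ideal.span {Polynomial.X}).comap (eV i))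
    (hUV' : ∀ i, iO 𝓘 U ≤ iO 𝓘 (V i)) :
    Nontrivial (O ((completionAlong X 𝓘).Osh hX) (iO 𝓘 U)) ∧
      (∀ i, Function.Injective (resO (R := (completionAlong X 𝓘).Osh hX) (hUV' i))) ∧
      ∃ σ : O ((completionAlong X 𝓘).Osh hX) (iO 𝓘 U), ∀ i
        (a b : O ((completionAlong X 𝓘).Osh hX) (iO 𝓘 (V i))),
        resO (hUV' i) a * σ = resO (hUV' i) b → a = 0 := by
  have hϖ0 : ϖ ≠ 0 := hϖ.ne_zero
  have hu : algebraMap A K ϖ ≠ 0 := fun h => hϖ0 ((IsFractionRing.injective A K) (by rw [h, map_zero]))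
  refine facts 𝓘 hX (algebraMap A K) (IsFractionRing.injective A K) ϖ (algebraMap A K ϖ)⁻¹
    (mul_inv_cancel₀ hu) ?_ hUV hU hV eU eV hc hIU hIV
  intro a ha
  by_contra h0
  obtain ⟨n, hn⟩ := IsDiscreteValuationRing.associated_pow_irreducible h0 hϖ
  obtain ⟨u, hu⟩ := hn
  have h1 := ha (n + 1)
  have h2 : ϖ ^ (n + 1) ∣ ϖ ^ n := by
    rw [← hu]
    exact Dvd.dvd.mul_right h1 _
  exact absurd ((pow_dvd_pow_iff hϖ0 hϖ.not_isUnit).mp h2) (by omega)

end Geo

end Groth.Agent.Refuted.K473.PowSer
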